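import Groth.Agent.CommAlgDim.Integral
import Mathlib

/-! Noether normalisation of a fibre with variables lifted to the total space. -/

set_option autoImplicit false
universe u

open TensorProduct

namespace NoethFibLib

variable {A B : Type u} [CommRing A] [CommRing B] [Algebra A B]
variable {K : Type u} [Field K] [Algebra A K]

theorem exists_lift (hK : ∀ z : K, ∃ a s : A, algebraMap A K s ≠ 0 ∧ z * algebraMap A K s = algebraMap A K a)
    (c : K ⊗[A] B) :
    ∃ (s : A) (b : B), algebraMap A K s ≠ 0 ∧ algebraMap A K s • c = (1 : K) ⊗ₜ[A] b := by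
  induction c with
  | zero => exact ⟨1, 0, by simp, by simp⟩
  | tmul k b =>
    obtain ⟨a, s, hs, h⟩ := hK k
    refine ⟨s, a • b, hs, ?_⟩
    rw [TensorProduct.smul_tmul', smul_eq_mul, mul_comm, h, Algebra.algebraMap_eq_smul_one,
      TensorProduct.smul_tmul]
  | add x y hx hy =>
    obtain ⟨s, b, hs, h⟩ := hx
    obtain ⟨t, c, ht, h'⟩ := hy
    refine ⟨s * t, t • b + s • c, by simp [hs, ht], ?_⟩
    rw [map_mul, smul_add, TensorProduct.tmul_add, TensorProduct.tmul_smul, TensorProduct.tmul_smul,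
      ← h, ← h', ← algebraMap_smul K t, ← algebraMap_smul K s]
    module

/-- variables of a Noether normalisation of the fibre can be taken in the image of `B`. -/
theorem exists_finite_aeval (hK : ∀ z : K, ∃ a s : A, algebraMap A K s ≠ 0 ∧ z * algebraMap A K s = algebraMap A K a)
    [Algebra.FiniteType A B] (e : ℕ) (he : ringKrullDim (K ⊗[A] B) = e) :
    ∃ v : ULift.{u} (Fin e) → B,
      (MvPolynomial.aeval (fun i => (1 : K) ⊗ₜ[A] v i) :
        MvPolynomial (ULift.{u} (Fin e)) K →ₐ[K] K ⊗[A] B).toRingHom.Finite := by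
  haveI : Nontrivial (K ⊗[A] B) := by
    rcases subsingleton_or_nontrivial (K ⊗[A] B) with h | h
    · rw [ringKrullDim_eq_bot_of_subsingleton] at he
      exact absurd he (by simp)
    · exact h
  obtain ⟨s, g, hinj, hfin⟩ := exists_finite_inj_algHom_of_fg K (K ⊗[A] B)
  have hse : s = e := by
    letI : Algebra (MvPolynomial (Fin s) K) (K ⊗[A] B) := g.toRingHom.toAlgebra
    haveI : Module.Finite (MvPolynomial (Fin s) K) (K ⊗[A] B) := hfin
    have h1 := CommAlgDim.ringKrullDim_eq_of_integral (MvPolynomial (Fin s) K) (K ⊗[A] B) hinj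
    rw [he, MvPolynomial.ringKrullDim_of_isNoetherianRing, ringKrullDim_eq_zero_of_field, zero_add] at h1
    rw [Nat.card_fin] at h1
    exact_mod_cast h1.symm
  subst hse
  choose t b ht hb using fun i : Fin s => exists_lift hK (g (MvPolynomial.X i))
  refine ⟨fun i => b i.down, ?_⟩
  set Φ : MvPolynomial (ULift.{u} (Fin s)) K →ₐ[K] K ⊗[A] B :=
    MvPolynomial.aeval (fun i => (1 : K) ⊗ₜ[A] b i.down) with hΦ
  let σ : MvPolynomial (Fin s) K →ₐ[K] MvPolynomial (ULift.{u} (Fin s)) K :=
    MvPolynomial.aeval (fun i => (algebraMap A K (t i))⁻¹ • MvPolynomial.X (ULift.up i))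
  have hg : g = Φ.comp σ := MvPolynomial.algHom_ext fun i => by
    simp only [σ, AlgHom.comp_apply, MvPolynomial.aeval_X, map_smul, hΦ, ← hb, smul_smul,
      inv_mul_cancel₀ (ht i), one_smul]
  have h2 : (Φ.toRingHom.comp σ.toRingHom).Finite := by
    have : Φ.toRingHom.comp σ.toRingHom = g.toRingHom := by rw [hg]; rfl
    rw [this]; exact hfin
  exact RingHom.Finite.of_comp_finite h2

/-- a finite map from the polynomial ring in `dim` variables is injective. -/
theorem injective_of_finite {C : Type u} [CommRing C] [Algebra K C] (e : ℕ) (he : ringKrullDim C = e)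
    (Φ : MvPolynomial (ULift.{u} (Fin e)) K →ₐ[K] C) (hfin : Φ.toRingHom.Finite) :
    Function.Injective Φ := by
  by_contra hni
  obtain ⟨r, hr, hr0⟩ : ∃ r, Φ r = 0 ∧ r ≠ 0 := by
    by_contra! h
    exact hni ((injective_iff_map_eq_zero Φ).mpr h)
  letI : Algebra (Φ.toRingHom.range) C := (Φ.toRingHom.range.subtype).toAlgebra
  haveI : Algebra.IsIntegral (Φ.toRingHom.range) C := ⟨fun c => by
    have h := hfin.to_isIntegral c
    obtain ⟨p, hp, hpe⟩ := h
    refine ⟨p.map Φ.toRingHom.rangeRestrict, hp.map _, ?_⟩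
    rw [Polynomial.eval₂_map]
    exact hpe⟩
  have h1 := CommAlgDim.ringKrullDim_eq_of_integral (Φ.toRingHom.range) C Subtype.val_injective
  have h2 := ringKrullDim_succ_le_of_surjective Φ.toRingHom.rangeRestrict Φ.toRingHom.rangeRestrict_surjective
    (r := r) (mem_nonZeroDivisors_of_ne_zero hr0) (Subtype.ext hr)
  rw [← h1, he, MvPolynomial.ringKrullDim_of_isNoetherianRing, ringKrullDim_eq_zero_of_field, zero_add,
    Nat.card_ulift, Nat.card_fin] at h2
  norm_cast at h2
  omega

/-- a finite map from the polynomial ring in `dim` variables is surjective on spectra. -/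
theorem comap_surjective_of_finite {C : Type u} [CommRing C] [Algebra K C] (e : ℕ) (he : ringKrullDim C = e)
    (Φ : MvPolynomial (ULift.{u} (Fin e)) K →ₐ[K] C) (hfin : Φ.toRingHom.Finite) :
    Function.Surjective (PrimeSpectrum.comap Φ.toRingHom) := by
  letI : Algebra (MvPolynomial (ULift.{u} (Fin e)) K) C := Φ.toRingHom.toAlgebra
  haveI : Module.Finite (MvPolynomial (ULift.{u} (Fin e)) K) C := hfin
  haveI : FaithfulSMul (MvPolynomial (ULift.{u} (Fin e)) K) C :=
    (faithfulSMul_iff_algebraMap_injective _ _).mpr (injective_of_finite e he Φ hfin)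
  intro P
  obtain ⟨Q, hQ, hQP⟩ := Ideal.exists_ideal_over_prime_of_isIntegral P.asIdeal (⊥ : Ideal C) (by
    intro x hx
    rw [Ideal.mem_comap, Ideal.mem_bot] at hx
    rw [injective_of_finite e he Φ hfin (hx.trans (map_zero Φ).symm)]
    exact zero_mem _) |>.imp fun Q h => h.2
  exact ⟨⟨Q, hQ⟩, PrimeSpectrum.ext hQP⟩

end NoethFibLib
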