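import Groth.Agent.NoethFibLib.Alg
import Groth.Agent.FlatLib.FibScheme
import Groth.Agent.RichLib.QFLocusConstructible
import Mathlib

/-! The fibre map of a morphism to affine space, for affine schemes. -/

set_option autoImplicit false
universe u

open AlgebraicGeometry CategoryTheory Limits TensorProduct

namespace NoethFibLib

theorem isIso_of_isOpenImmersion_surjective {X Y : Scheme.{u}} (i : X ⟶ Y) [IsOpenImmersion i]
    (h : Function.Surjective i.base) : IsIso i :=
  haveI : Epi i.base := (TopCat.epi_iff_surjective _).mpr h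
  IsOpenImmersion.isIso _

section

variable {X Y : Scheme.{u}} [IsAffine X] [IsAffine Y] (f : X ⟶ Y) (y : Y) (e : ℕ)

abbrev σ : Type u := ULift.{u} (Fin e)

set_option maxSynthPendingDepth 6 in
/-- The map of fibres over `y` of a `Y`-morphism to affine space is `Spec` of the evaluation map. -/
theorem exists_fibre_model [LocallyOfFiniteType f] :
    ∃ (A B K : Type u) (_ : CommRing A) (_ : CommRing B) (_ : Field K) (_ : Algebra A B) (_ : Algebra A K),
      (∀ z : K, ∃ a s : A, algebraMap A K s ≠ 0 ∧ z * algebraMap A K s = algebraMap A K a) ∧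
      Algebra.FiniteType A B ∧
      Nonempty (Spec (.of (K ⊗[A] B)) ≅ f.fiber y) ∧
      ∃ (mk : (σ e → B) → (X ⟶ 𝔸(σ e; Y))),
        (∀ g : X ⟶ 𝔸(σ e; Y), g ≫ 𝔸(σ e; Y) ↘ Y = f → ∃ v, mk v = g) ∧
        ∀ v, mk v ≫ 𝔸(σ e; Y) ↘ Y = f ∧
          Nonempty (Arrow.mk (pullback.snd (mk v) ((𝔸(σ e; Y) ↘ Y).fiberι y)) ≅
            Arrow.mk (Spec.map (CommRingCat.ofHom
              (MvPolynomial.aeval (fun i => (1 : K) ⊗ₜ[A] v i) :
                MvPolynomial (σ e) K →ₐ[K] K ⊗[A] B).toRingHom))) := by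
  let A : Type u := Γ(Y, ⊤)
  let B : Type u := Γ(X, ⊤)
  let K : Type u := Y.residueField y
  let ψ : Γ(Y, ⊤) ⟶ Y.residueField y := Y.presheaf.germ ⊤ y trivial ≫ Y.residue y
  letI : Algebra A B := f.appTop.hom.toAlgebra
  letI : Algebra A K := ψ.hom.toAlgebra
  have hψ : Y.fromSpecResidueField y = Spec.map ψ ≫ Y.isoSpec.inv := by
    rw [← IsAffineOpen.fromSpec_top, Spec.map_comp, Category.assoc, Scheme.fromSpecResidueField,
      ← (isAffineOpen_top Y).fromSpecStalk_eq_fromSpecStalk (x := y) trivial]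
    rfl
  have hK : ∀ z : K, ∃ a s : A, algebraMap A K s ≠ 0 ∧ z * algebraMap A K s = algebraMap A K a := by
    intro z
    obtain ⟨w, rfl⟩ := Y.residue_surjective y z
    letI := TopCat.Presheaf.algebra_section_stalk Y.presheaf (⟨y, trivial⟩ : (⊤ : Y.Opens))
    haveI := (isAffineOpen_top Y).isLocalization_stalk ⟨y, trivial⟩
    obtain ⟨⟨a, s⟩, hs⟩ := IsLocalization.surj ((isAffineOpen_top Y).primeIdealOf ⟨y, trivial⟩).asIdeal.primeCompl w
    refine ⟨a, s, ?_, ?_⟩
    · have hu : IsUnit (algebraMap A (Y.presheaf.stalk y) s) := IsLocalization.map_units _ s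
      exact (hu.map (Y.residue y).hom).ne_zero
    · show (Y.residue y).hom w * (Y.residue y).hom (algebraMap A (Y.presheaf.stalk y) s) =
        (Y.residue y).hom (algebraMap A (Y.presheaf.stalk y) a)
      rw [← map_mul, hs]
  haveI hft : Algebra.FiniteType A B :=
    (HasRingHomProperty.iff_of_isAffine (P := @LocallyOfFiniteType)).mp ‹LocallyOfFiniteType f›
  let P := MvPolynomial (σ e) A
  let iP : 𝔸(σ e; Y) ≅ Spec (.of P) := AffineSpace.isoOfIsAffine (σ e) Y
  let π := 𝔸(σ e; Y) ↘ Y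
  have hπ : iP.inv ≫ π = Spec.map (CommRingCat.ofHom (algebraMap A P)) ≫ Y.isoSpec.inv :=
    AffineSpace.isoOfIsAffine_inv_over _
  have hf : X.isoSpec.inv ≫ f = Spec.map (CommRingCat.ofHom (algebraMap A B)) ≫ Y.isoSpec.inv :=
    (Scheme.isoSpec_inv_naturality f).symm
  let eK : Spec (CommRingCat.of K) ≅ Spec (Y.residueField y) := Iso.refl _
  have hsK : eK.hom ≫ Y.fromSpecResidueField y =
      Spec.map (CommRingCat.ofHom (algebraMap A K)) ≫ Y.isoSpec.inv := by
    show 𝟙 _ ≫ _ = _
    rw [Category.id_comp]; exact hψ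
  obtain ⟨θA, hA₁, hA₂, hA₃, hA₄⟩ := FlatLib.exists_fibre_chart (A := A) (B := P) (K := K) π iP.inv Y.isoSpec.inv hπ y
    eK hsK
  obtain ⟨θB, hB₁, hB₂, hB₃, hB₄⟩ := FlatLib.exists_fibre_chart (A := A) (B := B) (K := K) f X.isoSpec.inv Y.isoSpec.inv hf y
    eK hsK
  haveI : IsIso θA := isIso_of_isOpenImmersion_surjective θA fun z => hA₄ z
    (iP.inv.homeomorph.surjective _)
  haveI : IsIso θB := isIso_of_isOpenImmersion_surjective θB fun z => hB₄ z
    (X.isoSpec.inv.homeomorph.surjective _)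
  let mk : (σ e → B) → (X ⟶ 𝔸(σ e; Y)) := fun v =>
    X.isoSpec.hom ≫ Spec.map (CommRingCat.ofHom (MvPolynomial.aeval v : P →ₐ[A] B).toRingHom) ≫ iP.inv
  have hmk : ∀ v, mk v ≫ π = f := by
    intro v
    show (X.isoSpec.hom ≫ Spec.map _ ≫ iP.inv) ≫ π = f
    rw [Category.assoc, Category.assoc, hπ, ← Category.assoc (Spec.map _), ← Spec.map_comp,
      ← CommRingCat.ofHom_comp]
    have hc : (MvPolynomial.aeval v : P →ₐ[A] B).toRingHom.comp (algebraMap A P) = algebraMap A B :=
      RingHom.ext fun a => (MvPolynomial.aeval v : P →ₐ[A] B).commutes a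
    rw [hc, ← hf, Iso.hom_inv_id_assoc]
  refine ⟨A, B, K, inferInstance, inferInstance, inferInstance, inferInstance, inferInstance, hK, hft,
    ⟨asIso θB⟩, mk, ?_, fun v => ⟨hmk v, ?_⟩⟩
  · intro g hg
    let φ := Spec.preimage (X.isoSpec.inv ≫ g ≫ iP.hom)
    have hφ : Spec.map φ = X.isoSpec.inv ≫ g ≫ iP.hom := Spec.map_preimage _
    have hφA : φ.hom.comp (algebraMap A P) = algebraMap A B := by
      have h1 : CommRingCat.ofHom (algebraMap A P) ≫ φ = CommRingCat.ofHom (algebraMap A B) := by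
        apply Spec.map_injective
        rw [Spec.map_comp, hφ, ← cancel_mono Y.isoSpec.inv, Category.assoc, Category.assoc, Category.assoc,
          ← hπ, Iso.hom_inv_id_assoc, hg, hf]
      exact congrArg CommRingCat.Hom.hom h1
    refine ⟨fun i => φ.hom (MvPolynomial.X i), ?_⟩
    have h2 : CommRingCat.ofHom (MvPolynomial.aeval (fun i => φ.hom (MvPolynomial.X i)) : P →ₐ[A] B).toRingHom
        = φ := by
      refine CommRingCat.hom_ext (MvPolynomial.ringHom_ext (fun a => ?_) (fun i => ?_))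
      · show MvPolynomial.aeval (R := A) _ (MvPolynomial.C a) = φ.hom (MvPolynomial.C a)
        rw [MvPolynomial.aeval_C]
        exact (RingHom.congr_fun hφA a).symm
      · show MvPolynomial.aeval (R := A) _ (MvPolynomial.X i) = φ.hom (MvPolynomial.X i)
        rw [MvPolynomial.aeval_X]
    show X.isoSpec.hom ≫ Spec.map _ ≫ iP.inv = g
    rw [h2, hφ, Category.assoc, Category.assoc, Iso.hom_inv_id, Category.comp_id, Iso.hom_inv_id_assoc]
  · let g := mk v
    let α : K ⊗[A] P →ₐ[K] K ⊗[A] B :=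
      Algebra.TensorProduct.map (AlgHom.id K K) (MvPolynomial.aeval v)
    let S := Spec.map (CommRingCat.ofHom α.toRingHom)
    let top := Spec.map (CommRingCat.ofHom
      (Algebra.TensorProduct.includeRight : B →ₐ[A] K ⊗[A] B).toRingHom) ≫ X.isoSpec.inv
    have h0 : top ≫ g = (S ≫ θA) ≫ π.fiberι y := by
      rw [Category.assoc S, hA₂]
      show (Spec.map _ ≫ X.isoSpec.inv) ≫ X.isoSpec.hom ≫ Spec.map _ ≫ iP.inv = _
      rw [Category.assoc, Iso.inv_hom_id_assoc, ← Spec.map_comp_assoc, ← Spec.map_comp_assoc]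
      congr 2
    have h1 : (S ≫ θA) ≫ π.fiberToSpecResidueField y = θB ≫ f.fiberToSpecResidueField y := by
      rw [hB₃, Category.assoc, hA₃, ← Category.assoc, ← Spec.map_comp]
      congr 2
      ext x
      simp [α]
    have hbig : IsPullback top ((S ≫ θA) ≫ π.fiberToSpecResidueField y) (g ≫ π) (Y.fromSpecResidueField y) := by
      rw [h1, hmk v]
      exact (IsPullback.of_hasPullback f (Y.fromSpecResidueField y)).of_iso (asIso θB).symm
        (Iso.refl _) (Iso.refl _) (Iso.refl _)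
        (by show f.fiberι y ≫ 𝟙 X = inv θB ≫ top
            rw [Category.comp_id, IsIso.eq_inv_comp, hB₂])
        (by show f.fiberToSpecResidueField y ≫ 𝟙 _ = inv θB ≫ θB ≫ f.fiberToSpecResidueField y
            rw [Category.comp_id, IsIso.inv_hom_id_assoc])
        (by simp) (by simp)
    have hsq : IsPullback top (S ≫ θA) g (π.fiberι y) :=
      IsPullback.of_bot hbig h0 (IsPullback.of_hasPullback π (Y.fromSpecResidueField y))
    let eq := MvPolynomial.algebraTensorAlgEquiv (σ := σ e) A K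
    let Φ : MvPolynomial (σ e) K →ₐ[K] K ⊗[A] B := MvPolynomial.aeval (fun i => (1 : K) ⊗ₜ[A] v i)
    have hα : Φ.comp eq.toAlgHom = α := by
      apply Algebra.TensorProduct.ext (by ext)
      refine MvPolynomial.algHom_ext fun i => ?_
      simp [α, Φ, eq, MvPolynomial.algebraTensorAlgEquiv_tmul]
    refine ⟨Arrow.isoMk hsq.isoPullback.symm
      ((asIso θA).symm ≪≫ Scheme.Spec.mapIso eq.symm.toRingEquiv.toCommRingCatIso.op) ?_⟩
    show hsq.isoPullback.inv ≫ Spec.map (CommRingCat.ofHom Φ.toRingHom) = pullback.snd g _ ≫ inv θA ≫ Spec.map _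
    rw [← cancel_epi hsq.isoPullback.hom, Iso.hom_inv_id_assoc, hsq.isoPullback_hom_snd_assoc,
      Category.assoc, IsIso.hom_inv_id_assoc, ← Spec.map_comp]
    congr 1
    refine CommRingCat.hom_ext (RingHom.ext fun x => ?_)
    show Φ x = α (eq.symm x)
    rw [← hα]
    simp

end

end NoethFibLib
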